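import Cfsg.Agent.H101.RealOdd
import Cfsg.Agent.H661.SporRuTits

/-!
# `RealOdd` for the Tits group (helper126, task 1619 of helper972)
-/

set_option autoImplicit false

namespace Cfsg.Agent.H126.RO

open Subgroup Cfsg.Agent.H101.RO Cfsg.Agent.H661.Spor Cfsg.Agent.NotCT

universe u

/-- **Row of the Tits group**: an element of order 13. -/
theorem ro_Tits {G : Type u} [Group G] [Finite G] (h : Cfsg.Lie.IsoTits G) : Cfsg.Agent.H101.RO.RealOdd G := by
  have hc := Orders.tits h
  have h2 := Cfsg.Agent.EvenType.ChevTwoTits.charTwo h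
  obtain ⟨x, hx, hxi⟩ := (hasReal_tits h).isConj
  obtain ⟨y, hy⟩ := isConj_iff.1 hxi
  exact RealOdd.of_elts (p := 13) (k := 1) (by norm_num) (by norm_num) le_rfl (by rw [hx, pow_one]) hy
    fun t ht hcm => not_commute_two h2 (by rw [hc]; norm_num) hx ht hcm.symm

end Cfsg.Agent.H126.RO
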